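import Cfsg.Agent.Lib.Helper85.LSF.BwdCore

/-!
# LSF (S5286): package [BWD]

Conjugations by elements of the group are maps of the fusion system.
-/

set_option autoImplicit false

namespace Cfsg.Agent.Lib.Helper85.LSF

open Cfsg Cfsg.Agent.Lib.Helper67.LSF

universe u

/-- [BWD] from [PATH], [RED], [FIXLET] and [BWDCORE]. -/
theorem bwd_of (path : PkgPath.{u}) (red : PkgRed.{u}) (fixlet : PkgFixLet.{u})
    (core : PkgBwdCore.{u}) : PkgBwd.{u} := by
  intro Ω _ S F g hg P hP φ hφ hconj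
  obtain ⟨L0, q, hpath0, rfl⟩ := path S F g hg
  obtain ⟨L, hpath, hred, hmk⟩ := red S F L0 q hpath0
  rw [← hmk] at hconj
  have hR : ∀ x : P, q * lam S ⟨x, hP x.2⟩ * q⁻¹ = lam S ⟨φ x, hφ x⟩ := by
    intro x
    have h3 := congrArg SemidirectProduct.right (hconj x)
    simpa [aGen] using h3.symm
  refine core S F L q hpath P hP φ hφ ?_ hR
  intro x ℓ hℓ
  refine fixlet (xperm F (lam S ⟨x, hP x.2⟩)) L hred ?_ ℓ hℓ
  show autF F (lam S ⟨x, hP x.2⟩) (FreeGroup.mk L) = FreeGroup.mk L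
  have h1 : aGen F ⟨φ x, hφ x⟩ *
      (SemidirectProduct.inr q * SemidirectProduct.inl (FreeGroup.mk L) : Ghat F) =
      (SemidirectProduct.inr q * SemidirectProduct.inl (FreeGroup.mk L)) *
        aGen F ⟨x, hP x.2⟩ := by
    rw [hconj x]; group
  have h2 := congrArg SemidirectProduct.left h1
  have e1 : (aGen F ⟨φ x, hφ x⟩ *
      (SemidirectProduct.inr q * SemidirectProduct.inl (FreeGroup.mk L) : Ghat F)).left =
      autF F (lam S ⟨φ x, hφ x⟩ * q) (FreeGroup.mk L) := by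
    simp [aGen, map_mul]
  have e2 : ((SemidirectProduct.inr q * SemidirectProduct.inl (FreeGroup.mk L) : Ghat F) *
        aGen F ⟨x, hP x.2⟩).left = autF F q (FreeGroup.mk L) := by
    simp [aGen]
  rw [e1, e2] at h2
  have h4 : lam S ⟨φ x, hφ x⟩ * q = q * lam S ⟨x, hP x.2⟩ := by
    rw [← hR x]; group
  rw [h4, map_mul] at h2
  exact (autF F q).injective h2

end Cfsg.Agent.Lib.Helper85.LSF
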