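import Cfsg.Agent.Lib.Helper67.LSF.Defs

/-!
# LSF (S5286): package [BWDCORE]

Along a path all of whose letters are fixed by `lam P`, conjugation by the permutation part is a
map of the fusion system.
-/

set_option autoImplicit false

namespace Cfsg.Agent.Lib.Helper85.LSF

open Cfsg Cfsg.Agent.Lib.Helper67.LSF

universe u

variable {Ω : Type u} [Group Ω] {S : Subgroup Ω}

theorem lam_inj' {s s' : S} (h : lam S s = lam S s') : s = s' := by
  have h3 := congrArg (fun e => e 1) h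
  simpa [lam_apply] using h3

theorem sig_conj {F : FusionSystem S} (i : Idx F) (u : i.P) :
    i.σ * lam S ⟨u, (F.le_of_mem i.mem).1 u.2⟩ * i.σ⁻¹ =
      lam S ⟨i.φ u, (F.le_of_mem i.mem).2 u⟩ := by
  refine Equiv.ext fun y => ?_
  have h := i.hσ u (i.σ⁻¹ y)
  simp only [Equiv.Perm.coe_mul, Function.comp_apply, lam_apply]
  rw [h]
  simp

theorem mem_Lam {F : FusionSystem S} (i : Idx F) (c : Equiv.Perm S) :
    c ∈ Lam i ↔ ∃ u : S, (u : Ω) ∈ i.P ∧ lam S u = c := by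
  simp [Lam, Subgroup.mem_map, Subgroup.mem_subgroupOf]

theorem fix_coset {F : FusionSystem S} (i : Idx F) (p c : Equiv.Perm S)
    (h : xperm F p ⟨i, (c : Equiv.Perm S ⧸ Lam i)⟩ = ⟨i, (c : Equiv.Perm S ⧸ Lam i)⟩) :
    c⁻¹ * p * c ∈ Lam i := by
  rw [xperm_mk] at h
  have h1 := eq_of_heq (Sigma.mk.inj_iff.mp h).2
  have h2 := QuotientGroup.eq.mp h1
  have h3 := inv_mem h2
  simpa [mul_assoc] using h3

theorem comp_mem' (F : FusionSystem S) {P Q : Subgroup Ω} {φ' : P →* Ω} {ψ : Q →* Ω}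
    (h1 : φ' ∈ F.Hom P) (h2 : ψ ∈ F.Hom Q) (h : ∀ x : P, φ' x ∈ Q) (φ : P →* Ω)
    (hφ : ∀ x : P, φ x = ψ ⟨φ' x, h x⟩) : φ ∈ F.Hom P := by
  have := F.comp_mem h1 h2 h
  have e : φ = ψ.comp (φ'.codRestrict Q h) := MonoidHom.ext fun x => by rw [hφ]; rfl
  rw [e]; exact this

/-- [BWDCORE]. -/
theorem bwdCore : PkgBwdCore.{u} := by
  intro Ω _ S F L q hpath
  induction hpath with
  | nil s =>
    intro P hP φ hφ _ hconj
    have e : φ = conjHom P (s : Ω) := by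
      refine MonoidHom.ext fun x => ?_
      have h := hconj x
      rw [← map_inv, ← map_mul, ← map_mul] at h
      have h' := congrArg Subtype.val (lam_inj' h)
      simpa [conjHom] using h'.symm
    rw [e]
    exact F.conj_mem hP s.2
  | a s hp ih =>
    rename_i L q'
    intro P hP φ hφ hfix hconj
    let φ' : P →* Ω := (MulAut.conj ((s : Ω)⁻¹)).toMonoidHom.comp φ
    have hφ'e : ∀ x : P, φ' x = (s : Ω)⁻¹ * φ x * (s : Ω) := fun x => by
      show (s : Ω)⁻¹ * φ x * ((s : Ω)⁻¹)⁻¹ = _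
      rw [inv_inv]
    have hφ' : ∀ x : P, φ' x ∈ S := fun x => by
      rw [hφ'e]
      exact S.mul_mem (S.mul_mem (S.inv_mem s.2) (hφ x)) s.2
    have h1 : φ' ∈ F.Hom P := by
      refine ih P hP φ' hφ' hfix fun x => ?_
      have h := hconj x
      have h2 : q' * lam S ⟨x, hP x.2⟩ * q'⁻¹ = (lam S s)⁻¹ * lam S ⟨φ x, hφ x⟩ * lam S s := by
        rw [← h]; group
      rw [h2, ← map_inv, ← map_mul, ← map_mul]
      congr 1
      apply Subtype.ext
      simp [hφ'e]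
    refine comp_mem' F h1 (F.conj_mem le_rfl s.2) hφ' φ fun x => ?_
    simp [conjHom, hφ'e]
    group
  | t i hp ih =>
    rename_i L q'
    intro P hP φ hφ hfix hconj
    have key : ∀ x : P, ∃ u : S, ∃ hu : (u : Ω) ∈ i.P,
        lam S u = q' * lam S ⟨x, hP x.2⟩ * q'⁻¹ ∧ φ x = i.φ ⟨u, hu⟩ := by
      intro x
      have h0 := hfix x _ (List.mem_cons_self ..)
      have h1 := fix_coset i _ _ h0
      rw [inv_inv] at h1
      obtain ⟨u, hu, hu'⟩ := (mem_Lam i _).mp h1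
      refine ⟨u, hu, hu', ?_⟩
      have h2 := hconj x
      have h3 : lam S ⟨φ x, hφ x⟩ = i.σ * lam S u * i.σ⁻¹ := by
        rw [← h2, hu']; group
      have h4 := sig_conj i ⟨u, hu⟩
      have h5 : lam S ⟨φ x, hφ x⟩ =
          lam S ⟨i.φ ⟨u, hu⟩, (F.le_of_mem i.mem).2 ⟨u, hu⟩⟩ := by
        rw [h3, ← h4]
      exact congrArg Subtype.val (lam_inj' h5)
    obtain ⟨ψ, hψ, hψ'⟩ := F.inv_mem i.mem
    have hr : ∀ x : P, φ x ∈ i.φ.range := fun x => by
      obtain ⟨u, hu, -, h⟩ := key x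
      exact ⟨⟨u, hu⟩, h.symm⟩
    let φ' : P →* Ω := ψ.comp (φ.codRestrict i.φ.range hr)
    have hφ'v : ∀ x : P, ∀ u : S, ∀ hu : (u : Ω) ∈ i.P, φ x = i.φ ⟨u, hu⟩ → φ' x = u := by
      intro x u hu h
      show ψ ⟨φ x, hr x⟩ = u
      have h6 := hψ' ⟨u, hu⟩
      rw [← h6]
      congr 1
      exact Subtype.ext h
    have hφ'P : ∀ x : P, φ' x ∈ i.P := fun x => by
      obtain ⟨u, hu, -, h⟩ := key x
      rw [hφ'v x u hu h]; exact hu
    have hφ'S : ∀ x : P, φ' x ∈ S := fun x => (F.le_of_mem i.mem).1 (hφ'P x)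
    have h1 : φ' ∈ F.Hom P := by
      refine ih P hP φ' hφ'S (fun x ℓ hℓ => hfix x ℓ (List.mem_cons_of_mem _ hℓ)) fun x => ?_
      obtain ⟨u, hu, hu', h⟩ := key x
      rw [← hu']
      congr 1
      exact Subtype.ext (hφ'v x u hu h).symm
    refine comp_mem' F h1 i.mem hφ'P φ fun x => ?_
    obtain ⟨u, hu, -, h⟩ := key x
    rw [h]
    congr 1
    exact Subtype.ext (hφ'v x u hu h).symm
  | t' i hp ih =>
    rename_i L q'
    intro P hP φ hφ hfix hconj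
    have key : ∀ x : P, ∃ hu : φ x ∈ i.P, q' * lam S ⟨x, hP x.2⟩ * q'⁻¹ =
        lam S ⟨i.φ ⟨φ x, hu⟩, (F.le_of_mem i.mem).2 _⟩ := by
      intro x
      have h0 := hfix x _ (List.mem_cons_self ..)
      have h1 := fix_coset i _ _ h0
      obtain ⟨u, hu, hu'⟩ := (mem_Lam i _).mp h1
      have h2 := hconj x
      have h3 : lam S u = lam S ⟨φ x, hφ x⟩ := by
        rw [hu', ← h2]; group
      have h4 : u = ⟨φ x, hφ x⟩ := lam_inj' h3
      have hu2 : φ x ∈ i.P := by rw [h4] at hu; exact hu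
      refine ⟨hu2, ?_⟩
      have h5 := sig_conj i ⟨φ x, hu2⟩
      rw [← h5, ← h2]; group
    let φ' : P →* Ω := i.φ.comp (φ.codRestrict i.P (fun x => (key x).1))
    have hφ'S : ∀ x : P, φ' x ∈ S := fun x => (F.le_of_mem i.mem).2 _
    have h1 : φ' ∈ F.Hom P := by
      refine ih P hP φ' hφ'S (fun x ℓ hℓ => hfix x ℓ (List.mem_cons_of_mem _ hℓ)) fun x => ?_
      obtain ⟨hu, h⟩ := key x
      exact h
    obtain ⟨ψ, hψ, hψ'⟩ := F.inv_mem i.mem
    refine comp_mem' F h1 hψ (fun x => ⟨⟨φ x, (key x).1⟩, rfl⟩) φ fun x => ?_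
    exact (hψ' ⟨φ x, (key x).1⟩).symm

end Cfsg.Agent.Lib.Helper85.LSF
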